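import Mathlib.GroupTheory.Nilpotent
import Mathlib.Algebra.DirectSum.Basic
import Mathlib.Algebra.Lie.Basic
import Mathlib.Tactic.Group
import Mathlib.Tactic.Abel

/-!
# The Lie ring of the lower central series of a group

`cl i g` is the image of `g ∈ γ i` in the component of degree `i` (and `0` when `g ∉ γ i`).
-/

set_option autoImplicit false

open scoped DirectSum commutatorElement

namespace CfsgLib.FpfClass

variable {G : Type*} [Group G]

/-- The lower central series of the whole group, starting with `γ 0 = ⊤`. -/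
abbrev gam (G : Type*) [Group G] (i : ℕ) : Subgroup G := (⊤ : Subgroup G).lowerCentralSeries i

theorem gam_succ_le (i : ℕ) : gam G (i + 1) ≤ gam G i :=
  Subgroup.lowerCentralSeries_antitone (⊤ : Subgroup G) (Nat.le_succ i)

theorem gam_anti {i j : ℕ} (h : i ≤ j) : gam G j ≤ gam G i :=
  Subgroup.lowerCentralSeries_antitone (⊤ : Subgroup G) h

instance gam_normal (i : ℕ) : (gam G i).Normal := inferInstance

theorem commutator_gam_le (i : ℕ) : ∀ j, ⁅gam G i, gam G j⁆ ≤ gam G (i + j + 1) := by
  intro j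
  induction j generalizing i with
  | zero => exact Subgroup.commutator_mono le_rfl le_top
  | succ j ih =>
    have key : ∀ K : Subgroup G, K.map (QuotientGroup.mk' (gam G (i + (j + 1) + 1))) = ⊥ ↔
        K ≤ gam G (i + (j + 1) + 1) := fun K => by
      rw [Subgroup.map_eq_bot_iff, QuotientGroup.ker_mk']
    have h1 : ⁅⁅(⊤ : Subgroup G), gam G i⁆, gam G j⁆ ≤ gam G (i + (j + 1) + 1) := by
      rw [Subgroup.commutator_comm ⊤]
      exact (ih (i + 1)).trans (gam_anti (by omega))
    have h2 : ⁅⁅gam G i, gam G j⁆, (⊤ : Subgroup G)⁆ ≤ gam G (i + (j + 1) + 1) :=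
      (Subgroup.commutator_mono (ih i) le_rfl).trans (gam_anti (i := i + (j + 1) + 1) (j := i + j + 1 + 1) (by omega))
    show ⁅gam G i, ⁅gam G j, (⊤ : Subgroup G)⁆⁆ ≤ gam G (i + (j + 1) + 1)
    rw [Subgroup.commutator_comm]
    rw [← key] at h1 h2 ⊢
    rw [Subgroup.map_commutator, Subgroup.map_commutator] at h1 h2 ⊢
    exact Subgroup.commutator_commutator_eq_bot_of_rotate h1 h2

theorem commutator_mem_gam {i j : ℕ} {x y : G} (hx : x ∈ gam G i) (hy : y ∈ gam G j) :
    ⁅x, y⁆ ∈ gam G (i + j + 1) :=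
  commutator_gam_le i j (Subgroup.commutator_mem_commutator hx hy)

theorem commute_mk {a b m : ℕ} (h : m ≤ a + b + 1) {x y : G} (hx : x ∈ gam G a) (hy : y ∈ gam G b) :
    Commute (x : G ⧸ gam G m) (y : G ⧸ gam G m) := by
  rw [← commutatorElement_eq_one_iff_commute]
  have : ((⁅x, y⁆ : G) : G ⧸ gam G m) = ⁅(x : G ⧸ gam G m), (y : G ⧸ gam G m)⁆ :=
    map_commutatorElement (QuotientGroup.mk' (gam G m)) x y
  rw [← this]
  exact (QuotientGroup.eq_one_iff _).mpr (gam_anti h (commutator_mem_gam hx hy))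

/-- The section `γ i / γ (i+1)` written additively. -/
abbrev Sect (G : Type*) [Group G] (i : ℕ) :=
  Additive (↥(gam G i) ⧸ (gam G (i + 1)).subgroupOf (gam G i))

instance instAddCommGroupSect (i : ℕ) : AddCommGroup (Sect G i) :=
  { (inferInstance : AddGroup (Sect G i)) with
    add_comm := fun a b => by
      obtain ⟨x, rfl⟩ := QuotientGroup.mk_surjective (Additive.toMul a)
      obtain ⟨y, rfl⟩ := QuotientGroup.mk_surjective (Additive.toMul b)
      refine QuotientGroup.eq.mpr ?_
      rw [Subgroup.mem_subgroupOf]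
      have h : ⁅(y : G)⁻¹, (x : G)⁻¹⁆ ∈ gam G (i + 1) :=
        gam_anti (by omega) (commutator_mem_gam ((gam G i).inv_mem y.2) ((gam G i).inv_mem x.2))
      simpa [commutatorElement_def, mul_assoc] using h }

/-- The Lie ring of the lower central series, as an abelian group. -/
abbrev Gr (G : Type*) [Group G] : Type _ := ⨁ i, Sect G i

/-- The element of `γ i` as an element of degree `i`. -/
noncomputable def clHom (i : ℕ) : Additive ↥(gam G i) →+ Gr G :=
  (DirectSum.of (fun i => Sect G i) i).comp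
    (MonoidHom.toAdditive (QuotientGroup.mk' ((gam G (i + 1)).subgroupOf (gam G i))))

open scoped Classical in
/-- The image of a group element in degree `i`. -/
noncomputable def cl (i : ℕ) (g : G) : Gr G :=
  if h : g ∈ gam G i then clHom i (Additive.ofMul ⟨g, h⟩) else 0

theorem cl_mul (i : ℕ) {x y : G} (hx : x ∈ gam G i) (hy : y ∈ gam G i) :
    cl i (x * y) = cl i x + cl i y := by
  rw [cl, cl, cl, dif_pos hx, dif_pos hy, dif_pos ((gam G i).mul_mem hx hy), ← map_add]
  rfl

theorem cl_eq_zero_iff (i : ℕ) {x : G} (hx : x ∈ gam G i) : cl i x = 0 ↔ x ∈ gam G (i + 1) := by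
  rw [cl, dif_pos hx, clHom, AddMonoidHom.comp_apply]
  constructor
  · intro h
    have h2 := DirectSum.of_injective (β := fun i => Sect G i) i (h.trans (map_zero _).symm)
    exact Subgroup.mem_subgroupOf.mp ((QuotientGroup.eq_one_iff _).mp h2)
  · intro h
    have h2 : (QuotientGroup.mk' ((gam G (i + 1)).subgroupOf (gam G i))) ⟨x, hx⟩ = 1 :=
      (QuotientGroup.eq_one_iff _).mpr (Subgroup.mem_subgroupOf.mpr h)
    show DirectSum.of (fun i => Sect G i) i
      (Additive.ofMul ((QuotientGroup.mk' ((gam G (i + 1)).subgroupOf (gam G i))) ⟨x, hx⟩)) = 0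
    rw [h2]
    exact map_zero _

theorem cl_eq_of_mk_eq (i : ℕ) {x y : G} (hx : x ∈ gam G i) (hy : y ∈ gam G i)
    (h : (x : G ⧸ gam G (i + 1)) = y) : cl i x = cl i y := by
  have h1 : y = x * (x⁻¹ * y) := by group
  have h2 : x⁻¹ * y ∈ gam G i := (gam G i).mul_mem ((gam G i).inv_mem hx) hy
  rw [h1, cl_mul i hx h2, (cl_eq_zero_iff i h2).mpr (QuotientGroup.eq.mp h), add_zero]

theorem cl_inv (i : ℕ) {x : G} (hx : x ∈ gam G i) : cl i x⁻¹ = -cl i x := by
  rw [eq_neg_iff_add_eq_zero, ← cl_mul i ((gam G i).inv_mem hx) hx, inv_mul_cancel,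
    cl_eq_zero_iff i (gam G i).one_mem]
  exact (gam G _).one_mem

theorem cl_one (i : ℕ) : cl i (1 : G) = 0 :=
  (cl_eq_zero_iff i (gam G i).one_mem).mpr (gam G _).one_mem

theorem cl_pow (i : ℕ) {x : G} (hx : x ∈ gam G i) : ∀ n : ℕ, cl i (x ^ n) = n • cl i x
  | 0 => by rw [pow_zero, zero_smul, cl_one]
  | n + 1 => by rw [pow_succ, cl_mul i ((gam G i).pow_mem hx n) hx, cl_pow i hx n, succ_nsmul]

@[elab_as_elim]
theorem gr_induction {P : Gr G → Prop} (a : Gr G) (h0 : P 0)
    (hcl : ∀ i, ∀ g ∈ gam G i, P (cl i g)) (hadd : ∀ a b, P a → P b → P (a + b)) : P a := by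
  induction a using DirectSum.induction_on with
  | zero => exact h0
  | of i x =>
    obtain ⟨⟨g, hg⟩, hgx⟩ := QuotientGroup.mk_surjective (Additive.toMul x)
    have h := hcl i g hg
    rw [cl, dif_pos hg, clHom] at h
    have hx : x = Additive.ofMul ((QuotientGroup.mk' ((gam G (i + 1)).subgroupOf (gam G i))) ⟨g, hg⟩) := by
      rw [QuotientGroup.mk'_apply, hgx]; rfl
    rw [hx]
    exact h
  | add a b ha hb => exact hadd a b ha hb

/-- Additive map out of the Lie ring given on each layer. -/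
noncomputable def grLift {M : Type*} [AddCommGroup M] (f : ∀ i, Additive ↥(gam G i) →+ M)
    (hf : ∀ i (x : ↥(gam G i)), (x : G) ∈ gam G (i + 1) → f i (Additive.ofMul x) = 0) : Gr G →+ M :=
  DirectSum.toAddMonoid fun i =>
    AddMonoidHom.toMultiplicative.symm (QuotientGroup.lift ((gam G (i + 1)).subgroupOf (gam G i))
      (AddMonoidHom.toMultiplicativeRight (f i)) fun x hx => by
        rw [MonoidHom.mem_ker]
        exact hf i x hx)

theorem grLift_cl {M : Type*} [AddCommGroup M] (f : ∀ i, Additive ↥(gam G i) →+ M)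
    (hf : ∀ i (x : ↥(gam G i)), (x : G) ∈ gam G (i + 1) → f i (Additive.ofMul x) = 0)
    (i : ℕ) {g : G} (hg : g ∈ gam G i) : grLift f hf (cl i g) = f i (Additive.ofMul ⟨g, hg⟩) := by
  rw [cl, dif_pos hg, clHom]
  show DirectSum.toAddMonoid _ (DirectSum.of (fun i => Sect G i) i _) = _
  rw [DirectSum.toAddMonoid_of]
  rfl

theorem mk_commutator_mul_left {i j : ℕ} {x x' y : G} (hx : x ∈ gam G i) (hx' : x' ∈ gam G i)
    (hy : y ∈ gam G j) : ((⁅x * x', y⁆ : G) : G ⧸ gam G (i + j + 1 + 1)) = ↑(⁅x, y⁆ * ⁅x', y⁆) := by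
  have h : ⁅x * x', y⁆ = x * ⁅x', y⁆ * x⁻¹ * ⁅x, y⁆ := by simp only [commutatorElement_def]; group
  rw [h, QuotientGroup.mk_mul, QuotientGroup.mk_mul, QuotientGroup.mk_mul, QuotientGroup.mk_mul,
    QuotientGroup.mk_inv,
    (commute_mk (m := i + j + 1 + 1) (by omega) hx (commutator_mem_gam hx' hy)).eq, mul_inv_cancel_right]
  exact (commute_mk (by omega) (commutator_mem_gam hx hy) (commutator_mem_gam hx' hy)).eq.symm

theorem cl_commutator_mul_left {i j : ℕ} {x x' y : G} (hx : x ∈ gam G i) (hx' : x' ∈ gam G i)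
    (hy : y ∈ gam G j) : cl (i + j + 1) ⁅x * x', y⁆ = cl (i + j + 1) ⁅x, y⁆ + cl (i + j + 1) ⁅x', y⁆ := by
  rw [← cl_mul _ (commutator_mem_gam hx hy) (commutator_mem_gam hx' hy)]
  exact cl_eq_of_mk_eq _ (commutator_mem_gam ((gam G i).mul_mem hx hx') hy)
    ((gam G _).mul_mem (commutator_mem_gam hx hy) (commutator_mem_gam hx' hy))
    (mk_commutator_mul_left hx hx' hy)

theorem cl_commutator_swap {i j : ℕ} {x y : G} (hx : x ∈ gam G i) (hy : y ∈ gam G j) :
    cl (i + j + 1) ⁅x, y⁆ = -cl (j + i + 1) ⁅y, x⁆ := by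
  rw [← commutatorElement_inv, show j + i + 1 = i + j + 1 by omega]
  exact cl_inv _ (by have := commutator_mem_gam hy hx; rwa [show j + i + 1 = i + j + 1 by omega] at this)

theorem cl_commutator_mul_right {i j : ℕ} {x y y' : G} (hx : x ∈ gam G i) (hy : y ∈ gam G j)
    (hy' : y' ∈ gam G j) : cl (i + j + 1) ⁅x, y * y'⁆ = cl (i + j + 1) ⁅x, y⁆ + cl (i + j + 1) ⁅x, y'⁆ := by
  rw [cl_commutator_swap hx ((gam G j).mul_mem hy hy'), cl_commutator_mul_left hy hy' hx,
    cl_commutator_swap hx hy, cl_commutator_swap hx hy']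
  abel

/-- Right bracket by a fixed element, on one layer. -/
noncomputable def brRight (i : ℕ) (x : ↥(gam G i)) : Gr G →+ Gr G :=
  grLift (fun j => AddMonoidHom.mk' (fun y => cl (i + j + 1) ⁅(x : G), ((Additive.toMul y : ↥(gam G j)) : G)⁆)
      fun a b => cl_commutator_mul_right x.2 (Additive.toMul a).2 (Additive.toMul b).2)
    fun j y hy => (cl_eq_zero_iff _ (commutator_mem_gam x.2 y.2)).mpr
      (by have := commutator_mem_gam x.2 hy; exact gam_anti (by omega) this)

theorem brRight_cl (i : ℕ) (x : ↥(gam G i)) (j : ℕ) {y : G} (hy : y ∈ gam G j) :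
    brRight i x (cl j y) = cl (i + j + 1) ⁅(x : G), y⁆ := by
  exact grLift_cl _ _ j hy

/-- The bracket. -/
noncomputable def grBracket : Gr G →+ Gr G →+ Gr G :=
  grLift (fun i => AddMonoidHom.mk' (fun x => brRight i (Additive.toMul x)) fun a b => by
      refine AddMonoidHom.ext fun v => ?_
      rw [AddMonoidHom.add_apply]
      induction v using gr_induction with
      | h0 => simp
      | hcl j y hy =>
        rw [brRight_cl _ _ _ hy, brRight_cl _ _ _ hy, brRight_cl _ _ _ hy]
        exact cl_commutator_mul_left (Additive.toMul a).2 (Additive.toMul b).2 hy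
      | hadd u w hu hw =>
        rw [map_add (brRight i (Additive.toMul (a + b))), map_add (brRight i (Additive.toMul a)),
          map_add (brRight i (Additive.toMul b)), hu, hw]
        abel)
    fun i x hx => by
      refine AddMonoidHom.ext fun v => ?_
      rw [AddMonoidHom.zero_apply]
      induction v using gr_induction with
      | h0 => exact map_zero _
      | hcl j y hy =>
        show brRight i x (cl j y) = 0
        rw [brRight_cl _ _ _ hy]
        exact (cl_eq_zero_iff _ (commutator_mem_gam x.2 hy)).mpr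
          (gam_anti (by omega) (commutator_mem_gam hx hy))
      | hadd u w hu hw => rw [map_add, hu, hw, add_zero]

theorem grBracket_cl {i j : ℕ} {x y : G} (hx : x ∈ gam G i) (hy : y ∈ gam G j) :
    grBracket (cl i x) (cl j y) = cl (i + j + 1) ⁅x, y⁆ := by
  rw [show grBracket (cl i x) = brRight i ⟨x, hx⟩ from grLift_cl _ _ i hx]
  exact brRight_cl i ⟨x, hx⟩ j hy

theorem grBracket_swap (a b : Gr G) : grBracket a b = -grBracket b a := by
  induction a using gr_induction with
  | h0 => simp
  | hcl i x hx =>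
    induction b using gr_induction with
    | h0 => simp
    | hcl j y hy => rw [grBracket_cl hx hy, grBracket_cl hy hx, cl_commutator_swap hx hy]
    | hadd u w hu hw => rw [map_add, map_add, AddMonoidHom.add_apply, hu, hw]; abel
  | hadd u w hu hw => rw [map_add, map_add, AddMonoidHom.add_apply, hu, hw]; abel

theorem grBracket_self (a : Gr G) : grBracket a a = 0 := by
  induction a using gr_induction with
  | h0 => simp
  | hcl i x hx => rw [grBracket_cl hx hx, commutatorElement_self, cl_one]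
  | hadd u w hu hw =>
    simp only [map_add, AddMonoidHom.add_apply, hu, hw]
    rw [grBracket_swap w u]
    abel

theorem cl_jacobi {i j k : ℕ} {x y z : G} (hx : x ∈ gam G i) (hy : y ∈ gam G j) (hz : z ∈ gam G k) :
    cl (i + (j + k + 1) + 1) ⁅x, ⁅y, z⁆⁆ =
      cl (i + (j + k + 1) + 1) ⁅⁅x, y⁆, z⁆ + cl (i + (j + k + 1) + 1) ⁅y, ⁅x, z⁆⁆ := by
  set n := i + (j + k + 1) + 1 with hn
  set a := ⁅x, y⁆ with ha
  set b := ⁅x, z⁆ with hb
  set c := ⁅y, z⁆ with hc
  have hay : a ∈ gam G (i + j + 1) := commutator_mem_gam hx hy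
  have hbm : b ∈ gam G (i + k + 1) := commutator_mem_gam hx hz
  have hcm : c ∈ gam G (j + k + 1) := commutator_mem_gam hy hz
  have haz : ⁅a, z⁆ ∈ gam G n := gam_anti (by omega) (commutator_mem_gam hay hz)
  have hyb : ⁅y, b⁆ ∈ gam G n := gam_anti (by omega) (commutator_mem_gam hy hbm)
  have hid : ⁅x, c⁆ * c = a * ⁅y, b * z⁆ * a⁻¹ * ⁅a, b * z⁆ := by
    simp only [ha, hb, hc, commutatorElement_def]; group
  have h1 : ⁅y, b * z⁆ = ⁅y, b⁆ * (b * c * b⁻¹) := by
    simp only [hc, commutatorElement_def]; group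
  have h2 : ⁅a, b * z⁆ = ⁅a, b⁆ * (b * ⁅a, z⁆ * b⁻¹) := by
    simp only [commutatorElement_def]; group
  have hab : ((⁅a, b⁆ : G) : G ⧸ gam G (n + 1)) = 1 :=
    (QuotientGroup.eq_one_iff _).mpr (gam_anti (by omega) (commutator_mem_gam hay hbm))
  set q : G → G ⧸ gam G (n + 1) := fun g => (g : G ⧸ gam G (n + 1)) with hq
  have e1 : q ⁅y, b * z⁆ = q ⁅y, b⁆ * q c := by
    simp only [hq]
    rw [h1, QuotientGroup.mk_mul, QuotientGroup.mk_mul, QuotientGroup.mk_mul, QuotientGroup.mk_inv,
      (commute_mk (m := n + 1) (by omega) hbm hcm).eq, mul_inv_cancel_right]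
  have e2 : q ⁅a, b * z⁆ = q ⁅a, z⁆ := by
    simp only [hq]
    rw [h2, QuotientGroup.mk_mul, hab, one_mul, QuotientGroup.mk_mul, QuotientGroup.mk_mul,
      QuotientGroup.mk_inv, (commute_mk (m := n + 1) (by omega) hbm haz).eq, mul_inv_cancel_right]
  have e3 : q (⁅x, c⁆ * c) = q (⁅a, z⁆ * ⁅y, b⁆ * c) := by
    have hbz : b * z ∈ gam G k := (gam G k).mul_mem (gam_anti (by omega) hbm) hz
    rw [hid]
    simp only [hq] at e1 e2 ⊢
    rw [QuotientGroup.mk_mul, QuotientGroup.mk_mul, QuotientGroup.mk_mul, QuotientGroup.mk_inv,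
      (commute_mk (m := n + 1) (by omega) hay (commutator_mem_gam hy hbz)).eq, mul_inv_cancel_right,
      e1, e2, QuotientGroup.mk_mul, QuotientGroup.mk_mul, mul_assoc,
      (commute_mk (m := n + 1) (by omega) hcm haz).eq, ← mul_assoc,
      (commute_mk (m := n + 1) (by omega) hyb haz).eq]
  simp only [hq, QuotientGroup.mk_mul] at e3
  rw [← cl_mul n haz hyb]
  refine cl_eq_of_mk_eq n (commutator_mem_gam hx hcm) ((gam G n).mul_mem haz hyb) ?_
  rw [QuotientGroup.mk_mul]
  exact mul_right_cancel e3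

theorem grBracket_leibniz (a b c : Gr G) :
    grBracket a (grBracket b c) = grBracket (grBracket a b) c + grBracket b (grBracket a c) := by
  induction a using gr_induction with
  | h0 => simp
  | hcl i x hx =>
    induction b using gr_induction with
    | h0 => simp
    | hcl j y hy =>
      induction c using gr_induction with
      | h0 => simp
      | hcl k z hz =>
        rw [grBracket_cl hy hz, grBracket_cl hx hy, grBracket_cl hx hz,
          grBracket_cl hx (commutator_mem_gam hy hz), grBracket_cl (commutator_mem_gam hx hy) hz,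
          grBracket_cl hy (commutator_mem_gam hx hz), cl_jacobi hx hy hz,
          show i + j + 1 + k + 1 = i + (j + k + 1) + 1 by omega,
          show j + (i + k + 1) + 1 = i + (j + k + 1) + 1 by omega]
      | hadd u w hu hw => simp only [map_add, hu, hw]; abel
    | hadd u w hu hw => simp only [map_add, AddMonoidHom.add_apply, hu, hw]; abel
  | hadd u w hu hw => simp only [map_add, AddMonoidHom.add_apply, hu, hw]; abel

noncomputable instance : Bracket (Gr G) (Gr G) := ⟨fun a b => grBracket a b⟩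

noncomputable instance : LieRing (Gr G) where
  add_lie a b c := by show grBracket (a + b) c = _; rw [map_add]; rfl
  lie_add a b c := map_add (grBracket a) b c
  lie_self := grBracket_self
  leibniz_lie := grBracket_leibniz

theorem lie_cl {i j : ℕ} {x y : G} (hx : x ∈ gam G i) (hy : y ∈ gam G j) :
    ⁅cl i x, cl j y⁆ = cl (i + j + 1) ⁅x, y⁆ := grBracket_cl hx hy

theorem map_mem_gam (α : MulAut G) {i : ℕ} {g : G} (hg : g ∈ gam G i) : α g ∈ gam G i := by
  have h : (gam G i).map α.toMonoidHom = gam G i := by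
    rw [Subgroup.map_lowerCentralSeries, Subgroup.map_top_of_surjective _ α.surjective]
  exact h ▸ ⟨g, hg, rfl⟩

/-- The action of an automorphism. -/
noncomputable def grMap (α : MulAut G) : Gr G →+ Gr G :=
  grLift (fun i => AddMonoidHom.mk' (fun x => cl i (α ((Additive.toMul x : ↥(gam G i)) : G))) fun a b => by
      show cl i (α (((Additive.toMul a : ↥(gam G i)) : G) * ((Additive.toMul b : ↥(gam G i)) : G))) = _
      rw [map_mul]
      exact cl_mul i (map_mem_gam α (Additive.toMul a).2) (map_mem_gam α (Additive.toMul b).2))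
    fun i x hx => (cl_eq_zero_iff i (map_mem_gam α x.2)).mpr (map_mem_gam α hx)

theorem grMap_cl (α : MulAut G) (i : ℕ) {g : G} (hg : g ∈ gam G i) : grMap α (cl i g) = cl i (α g) := by
  exact grLift_cl _ _ i hg

theorem grMap_lie (α : MulAut G) (a b : Gr G) : grMap α ⁅a, b⁆ = ⁅grMap α a, grMap α b⁆ := by
  induction a using gr_induction with
  | h0 => simp
  | hcl i x hx =>
    induction b using gr_induction with
    | h0 => simp
    | hcl j y hy =>
      rw [lie_cl hx hy, grMap_cl α _ (commutator_mem_gam hx hy), grMap_cl α i hx, grMap_cl α j hy,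
        lie_cl (map_mem_gam α hx) (map_mem_gam α hy), map_commutatorElement]
    | hadd u w hu hw => rw [lie_add, map_add, map_add, hu, hw, lie_add]
  | hadd u w hu hw => rw [add_lie, map_add, map_add, hu, hw, add_lie]

end CfsgLib.FpfClass
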