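import Mathlib.Algebra.Lie.Basic
import Mathlib.Data.Finset.Card
import Mathlib.Data.Fintype.Card
import Mathlib.Algebra.Group.Subgroup.Lattice
import Mathlib.Data.ZMod.Basic
import Mathlib.Algebra.Field.ZMod
import Mathlib.Algebra.BigOperators.Group.Finset.Basic
import Mathlib.Tactic.Abel

/-!
# Lie rings graded by a cyclic group of prime order, with trivial zero component

A family of additive subgroups `M d`, `d : ZMod p`, with `M 0 = ⊥` and `⁅M a, M b⁆ ≤ M (a + b)`.
`br` is the bracket of two families. Kreknin's argument gives derived length at most `2 ^ (p-1) - 1`;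
Higman's argument turns derived length `n` into class at most `∑ i < n, (p-1) ^ i`.
-/

set_option autoImplicit false

namespace CfsgLib.FpfClass

variable {p : ℕ} {L : Type*} [LieRing L]

/-- The generating set of the bracket of two families. -/
def brSet (A B : ZMod p → AddSubgroup L) (d : ZMod p) : Set L :=
  {z | ∃ a b : ZMod p, ∃ x ∈ A a, ∃ y ∈ B b, a + b = d ∧ ⁅x, y⁆ = z}

/-- The bracket of two families of subgroups. -/
def br (A B : ZMod p → AddSubgroup L) (d : ZMod p) : AddSubgroup L :=
  AddSubgroup.closure (brSet A B d)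

theorem lie_mem_br {A B : ZMod p → AddSubgroup L} {a b : ZMod p} {x y : L} (hx : x ∈ A a)
    (hy : y ∈ B b) : ⁅x, y⁆ ∈ br A B (a + b) :=
  AddSubgroup.subset_closure ⟨a, b, x, hx, y, hy, rfl, rfl⟩

theorem br_le {A B C : ZMod p → AddSubgroup L}
    (h : ∀ a b, ∀ x ∈ A a, ∀ y ∈ B b, ⁅x, y⁆ ∈ C (a + b)) (d : ZMod p) : br A B d ≤ C d := by
  rw [br, AddSubgroup.closure_le]
  rintro _ ⟨a, b, x, hx, y, hy, rfl, rfl⟩
  exact h a b x hx y hy

theorem br_mono {A B C D : ZMod p → AddSubgroup L} (h1 : A ≤ C) (h2 : B ≤ D) : br A B ≤ br C D :=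
  br_le fun _ _ _ hx _ hy => lie_mem_br (h1 _ hx) (h2 _ hy)

/-- To bracket an element of a closure it is enough to bracket the generators. -/
theorem lie_mem_of_closure {s : Set L} {T : AddSubgroup L} {x y : L} (hx : x ∈ AddSubgroup.closure s)
    (h : ∀ u ∈ s, ⁅u, y⁆ ∈ T) : ⁅x, y⁆ ∈ T := by
  induction hx using AddSubgroup.closure_induction with
  | mem u hu => exact h u hu
  | zero => rw [zero_lie]; exact T.zero_mem
  | add a b _ _ ha hb => rw [add_lie]; exact T.add_mem ha hb
  | neg a _ ha => rw [neg_lie]; exact T.neg_mem ha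

/-- To bracket with an element of a closure it is enough to bracket with the generators. -/
theorem lie_mem_of_closure_right {s : Set L} {T : AddSubgroup L} {x y : L}
    (hy : y ∈ AddSubgroup.closure s) (h : ∀ u ∈ s, ⁅x, u⁆ ∈ T) : ⁅x, y⁆ ∈ T := by
  rw [← lie_skew]
  exact T.neg_mem (lie_mem_of_closure hy fun u hu => by rw [← lie_skew]; exact T.neg_mem (h u hu))

/-- Jacobi in the form used below. -/
theorem lie_lie_eq (x y z : L) : ⁅⁅x, y⁆, z⁆ = ⁅⁅x, z⁆, y⁆ + ⁅x, ⁅y, z⁆⁆ := by
  rw [leibniz_lie x y z, ← lie_skew ⁅x, z⁆ y]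
  abel

/-- A graded family: closed under brackets, with trivial zero component. -/
structure IsGraded (M : ZMod p → AddSubgroup L) : Prop where
  zero : M 0 = ⊥
  lie : ∀ a b, ∀ x ∈ M a, ∀ y ∈ M b, ⁅x, y⁆ ∈ M (a + b)

/-- The derived series of a family. -/
def derived (M : ZMod p → AddSubgroup L) : ℕ → ZMod p → AddSubgroup L
  | 0 => M
  | i + 1 => br (derived M i) (derived M i)

theorem derived_add (M : ZMod p → AddSubgroup L) (i : ℕ) :
    ∀ j, derived M (i + j) = derived (derived M i) j
  | 0 => rfl
  | j + 1 => by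
    show br (derived M (i + j)) (derived M (i + j)) = _
    rw [derived_add M i j]
    rfl

variable {M : ZMod p → AddSubgroup L}

theorem derived_le (hM : IsGraded M) : ∀ i, derived M i ≤ M
  | 0 => le_refl _
  | i + 1 => br_le fun a b x hx y hy => hM.lie a b x (derived_le hM i a hx) y (derived_le hM i b hy)

theorem lie_derived (hM : IsGraded M) : ∀ (i : ℕ) (a b : ZMod p), ∀ x ∈ derived M i a, ∀ y ∈ M b,
    ⁅x, y⁆ ∈ derived M i (a + b)
  | 0 => hM.lie
  | i + 1 => fun a b x hx y hy => by
    refine lie_mem_of_closure hx ?_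
    rintro _ ⟨c, e, u, hu, v, hv, hce, rfl⟩
    rw [lie_lie_eq]
    refine AddSubgroup.add_mem _ ?_ ?_
    · have h := lie_mem_br (A := derived M i) (B := derived M i) (lie_derived hM i c b u hu y hy) hv
      rwa [show c + b + e = a + b by rw [← hce]; abel] at h
    · have h := lie_mem_br (A := derived M i) (B := derived M i) hu (lie_derived hM i e b v hv y hy)
      rwa [show c + (e + b) = a + b by rw [← hce]; abel] at h

theorem isGraded_derived (hM : IsGraded M) (i : ℕ) : IsGraded (derived M i) :=
  ⟨le_bot_iff.mp ((derived_le hM i 0).trans hM.zero.le),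
    fun a b x hx y hy => lie_derived hM i a b x hx y (derived_le hM i b hy)⟩

section Kreknin

/-- Membership in the subring generated by the components `M e`, `k < e.val`. -/
inductive InGen (M : ZMod p → AddSubgroup L) (k : ℕ) : ZMod p → L → Prop
  | of {e : ZMod p} {x : L} : k < e.val → x ∈ M e → InGen M k e x
  | zero (d : ZMod p) : InGen M k d 0
  | add {d : ZMod p} {x y : L} : InGen M k d x → InGen M k d y → InGen M k d (x + y)
  | neg {d : ZMod p} {x : L} : InGen M k d x → InGen M k d (-x)
  | lie {d e : ZMod p} {x y : L} : InGen M k d x → k < e.val → y ∈ M e → InGen M k (d + e) ⁅x, y⁆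

/-- The subring generated by the components `M e`, `k < e.val`. -/
def gen (M : ZMod p → AddSubgroup L) (k : ℕ) (d : ZMod p) : AddSubgroup L where
  carrier := {x | InGen M k d x}
  zero_mem' := InGen.zero d
  add_mem' := InGen.add
  neg_mem' := InGen.neg

theorem gen_le (hM : IsGraded M) (k : ℕ) {d : ZMod p} {x : L} (h : InGen M k d x) : x ∈ M d := by
  induction h with
  | of _ hx => exact hx
  | zero d => exact zero_mem _
  | add _ _ ha hb => exact add_mem ha hb
  | neg _ ha => exact neg_mem ha
  | lie _ _ hy ih => exact hM.lie _ _ _ ih _ hy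

/-- The components `M e`, `k < e.val`. -/
def topPart (M : ZMod p → AddSubgroup L) (k : ℕ) (e : ZMod p) : AddSubgroup L :=
  if k < e.val then M e else ⊥

theorem lie_gen_mem (hM : IsGraded M) (k : ℕ) {b : ZMod p} {y : L} (hy : InGen M k b y) :
    ∀ (a : ZMod p) (x : L), InGen M k a x → ⁅x, y⁆ ∈ br M (topPart M k) (a + b) := by
  induction hy with
  | @of e z he hz =>
    intro a x hx
    exact lie_mem_br (gen_le hM k hx) (by rw [topPart, if_pos he]; exact hz)
  | zero d => intro a x _; rw [lie_zero]; exact zero_mem _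
  | add _ _ iha ihb => intro a x hx; rw [lie_add]; exact add_mem (iha a x hx) (ihb a x hx)
  | neg _ iha => intro a x hx; rw [lie_neg]; exact neg_mem (iha a x hx)
  | @lie d e z w hz he hw ih =>
    intro a x hx
    rw [leibniz_lie x z w, ← lie_skew z ⁅x, w⁆]
    refine add_mem ?_ (neg_mem ?_)
    · have h := lie_mem_br (A := M) (B := topPart M k) (hM.lie a d x (gen_le hM k hx) z (gen_le hM k hz))
        (show w ∈ topPart M k e by rw [topPart, if_pos he]; exact hw)
      rwa [add_assoc] at h
    · have h := ih (a + e) _ (hx.lie he hw)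
      rwa [show a + e + d = a + (d + e) by abel] at h

theorem InGen.lie_gen (hM : IsGraded M) {k : ℕ} {e : ZMod p} {y : L} (hy : InGen M k e y) :
    ∀ (d : ZMod p) (x : L), InGen M k d x → InGen M k (d + e) ⁅x, y⁆ := by
  induction hy with
  | of he hy => exact fun d x hx => hx.lie he hy
  | zero e => intro d x _; rw [lie_zero]; exact InGen.zero _
  | add _ _ iha ihb => intro d x hx; rw [lie_add]; exact InGen.add (iha d x hx) (ihb d x hx)
  | neg _ iha => intro d x hx; rw [lie_neg]; exact InGen.neg (iha d x hx)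
  | @lie d' e' z w _ he' hw ihz =>
    intro d x hx
    rw [leibniz_lie x z w, ← lie_skew z ⁅x, w⁆]
    refine InGen.add ?_ (InGen.neg ?_)
    · have h := InGen.lie (ihz d x hx) he' hw
      rwa [add_assoc] at h
    · have h := ihz (d + e') _ (hx.lie he' hw)
      rwa [show d + e' + d' = d + (d' + e') by abel] at h

variable [Fact p.Prime]

/-- Kreknin: the derived series climbs through the components. -/
theorem derived_le_gen : ∀ (k : ℕ), k < p → ∀ M : ZMod p → AddSubgroup L, IsGraded M →
    derived M (2 ^ k - 1) ≤ gen M k := by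
  intro k
  induction k with
  | zero =>
    intro _ M hM d x hx
    by_cases hd : d = 0
    · subst hd
      rw [show derived M (2 ^ 0 - 1) 0 = M 0 from rfl, hM.zero, AddSubgroup.mem_bot] at hx
      subst hx
      exact InGen.zero _
    · exact InGen.of (Nat.pos_of_ne_zero fun h => hd (by rwa [ZMod.val_eq_zero] at h)) hx
  | succ k ih =>
    intro hk M hM
    set s := 2 ^ k - 1 with hs
    have hs2 : 2 ^ (k + 1) - 1 = (s + 1) + s := by
      have := Nat.one_le_two_pow (n := k)
      rw [pow_succ]
      omega
    rw [hs2, derived_add]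
    have hM' := isGraded_derived hM (s + 1)
    refine le_trans (ih (by omega) _ hM') ?_
    intro d x hx
    have hbase : ∀ e : ZMod p, k < e.val → ∀ z ∈ derived M (s + 1) e, InGen M (k + 1) e z := by
      intro e he z hz
      by_cases he' : k + 1 < e.val
      · exact InGen.of he' (derived_le hM _ e hz)
      have hev : e.val = k + 1 := by omega
      induction hz using AddSubgroup.closure_induction with
      | zero => exact InGen.zero _
      | add a b _ _ ha hb => exact InGen.add ha hb
      | neg a _ ha => exact InGen.neg ha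
      | mem z hz =>
        obtain ⟨a, b, u, hu, v, hv, rfl, rfl⟩ := hz
        have h := lie_gen_mem hM k (ih (by omega) M hM b hv) a u (ih (by omega) M hM a hu)
        revert h
        generalize ⁅u, v⁆ = w
        intro h
        induction h using AddSubgroup.closure_induction with
        | zero => exact InGen.zero _
        | add a b _ _ ha hb => exact InGen.add ha hb
        | neg a _ ha => exact InGen.neg ha
        | mem z hz =>
          obtain ⟨a', b', u', hu', v', hv', hab, rfl⟩ := hz
          rw [← hab]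
          by_cases hb' : k < b'.val
          swap
          · rw [topPart, if_neg hb', AddSubgroup.mem_bot] at hv'
            rw [hv', lie_zero]
            exact InGen.zero _
          rw [topPart, if_pos hb'] at hv'
          by_cases ha0 : a' = 0
          · rw [ha0, hM.zero, AddSubgroup.mem_bot] at hu'
            rw [hu', zero_lie]
            exact InGen.zero _
          have hapos : 0 < a'.val := Nat.pos_of_ne_zero fun h => ha0 (by rwa [ZMod.val_eq_zero] at h)
          have hval := ZMod.val_add a' b'
          rw [show (a' + b').val = k + 1 by rw [hab, hev]] at hval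
          have ha := ZMod.val_lt a'
          have hb := ZMod.val_lt b'
          have hsum : p ≤ a'.val + b'.val := by
            by_contra h
            rw [Nat.mod_eq_of_lt (by omega)] at hval
            omega
          rw [Nat.mod_eq_sub_mod hsum, Nat.mod_eq_of_lt (by omega)] at hval
          exact InGen.lie (InGen.of (by omega) hu') (by omega) hv'
    show InGen M (k + 1) d x
    have hx' : InGen (derived M (s + 1)) k d x := hx
    clear hx
    induction hx' with
    | of he hz => exact hbase _ he _ hz
    | zero d => exact InGen.zero d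
    | add _ _ ha hb => exact InGen.add ha hb
    | neg _ ha => exact InGen.neg ha
    | lie _ he hy ih' => exact (hbase _ he _ hy).lie_gen hM _ _ ih'

theorem derived_eq_bot (hM : IsGraded M) (d : ZMod p) : derived M (2 ^ (p - 1) - 1) d = ⊥ := by
  rw [eq_bot_iff]
  intro x hx
  have hp := (Fact.out : p.Prime).pos
  have h := derived_le_gen (p - 1) (by omega) M hM d hx
  rw [AddSubgroup.mem_bot]
  have h' : InGen M (p - 1) d x := h
  clear hx h
  induction h' with
  | @of e x he _ => have := ZMod.val_lt e; omega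
  | zero => rfl
  | add _ _ ha hb => rw [ha, hb, add_zero]
  | neg _ ha => rw [ha, neg_zero]
  | lie _ _ _ ih => rw [ih, zero_lie]

end Kreknin

section Higman

variable [Fact p.Prime]

/-- `N` is invariant under the bracket with `A`. -/
def Inv (N A : ZMod p → AddSubgroup L) : Prop :=
  ∀ a b, ∀ x ∈ N a, ∀ y ∈ A b, ⁅x, y⁆ ∈ N (a + b)

/-- `m` brackets of elements of `I` applied to an element of `N`; `S` lists degrees reachable by
deleting some of the factors. -/
inductive Word (N I : ZMod p → AddSubgroup L) : ℕ → Finset (ZMod p) → ZMod p → L → Prop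
  | base {a : ZMod p} {u : L} : u ∈ N a → Word N I 0 {a} a u
  | step {m : ℕ} {S : Finset (ZMod p)} {d e : ZMod p} {v x : L} : Word N I m S d v → e ≠ 0 →
      x ∈ I e → Word N I (m + 1) (S ∪ S.image (· + e)) (d + e) ⁅v, x⁆

variable {N N' I : ZMod p → AddSubgroup L}

theorem Word.mem (hN : Inv N M) (hI : I ≤ M) {m : ℕ} {S : Finset (ZMod p)} {d : ZMod p} {v : L}
    (h : Word N I m S d v) : v ∈ N d := by
  induction h with
  | base hu => exact hu
  | step _ _ hx ih => exact hN _ _ _ ih _ (hI _ hx)

theorem Word.shift (hN : Inv N M) (hN' : Inv N' M) (hI : I ≤ M) (hcomm : ∀ d, br N (br I I) d ≤ N' d)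
    {m : ℕ} {S : Finset (ZMod p)} {d : ZMod p} {v : L} (h : Word N I m S d v) :
    ∀ e : ZMod p, ∀ x ∈ I e,
      ∃ v', Word N I m (S.image (· + e)) (d + e) v' ∧ ⁅v, x⁆ - v' ∈ N' (d + e) := by
  induction h with
  | @base a u hu =>
    intro e x hx
    refine ⟨⁅u, x⁆, ?_, by rw [sub_self]; exact zero_mem _⟩
    rw [Finset.image_singleton]
    exact Word.base (hN _ _ _ hu _ (hI _ hx))
  | @step m S d f v y hw hf hy ih =>
    intro e x hx
    obtain ⟨v', hw', hv'⟩ := ih e x hx
    refine ⟨⁅v', y⁆, ?_, ?_⟩
    · have hS : (S ∪ S.image (· + f)).image (· + e) =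
          S.image (· + e) ∪ (S.image (· + e)).image (· + f) := by
        rw [Finset.image_union, Finset.image_image, Finset.image_image]
        congr 2
        funext t
        simp [add_right_comm]
      rw [hS, add_right_comm]
      exact hw'.step hf hy
    · rw [lie_lie_eq, show ⁅⁅v, x⁆, y⁆ + ⁅v, ⁅y, x⁆⁆ - ⁅v', y⁆ = ⁅⁅v, x⁆ - v', y⁆ + ⁅v, ⁅y, x⁆⁆ by
        rw [sub_lie]; abel]
      refine add_mem ?_ ?_
      · have h := hN' _ _ _ hv' _ (hI _ hy)
        rwa [add_right_comm] at h
      · have h := hcomm _ (lie_mem_br (hw.mem hN hI) (lie_mem_br hy hx))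
        rwa [← add_assoc] at h

theorem Word.mem_of_zero (hN : Inv N M) (hN' : Inv N' M) (hI : I ≤ M)
    (hcomm : ∀ d, br N (br I I) d ≤ N' d) (hN0 : N 0 = ⊥) :
    ∀ (m : ℕ) {S : Finset (ZMod p)} {d : ZMod p} {v : L}, Word N I m S d v → (0 : ZMod p) ∈ S →
      v ∈ N' d := by
  intro m
  induction m with
  | zero =>
    intro S d v h h0
    cases h with
    | base hu =>
      rw [Finset.mem_singleton] at h0
      subst h0
      rw [hN0, AddSubgroup.mem_bot] at hu
      rw [hu]
      exact zero_mem _
  | succ m ih =>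
    intro S d v h h0
    cases h with
    | @step _ S' d' e v x hw he hx =>
      rcases Finset.mem_union.mp h0 with h0 | h0
      · exact hN' _ _ _ (ih hw h0) _ (hI _ hx)
      · obtain ⟨v', hw', hv'⟩ := hw.shift hN hN' hI hcomm e x hx
        have h := add_mem hv' (ih hw' h0)
        rwa [sub_add_cancel] at h

theorem Word.card_le {m : ℕ} {S : Finset (ZMod p)} {d : ZMod p} {v : L} (h : Word N I m S d v) :
    min p (m + 1) ≤ S.card := by
  induction h with
  | base _ => simp
  | @step m S d e v x _ he _ ih =>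
    have hsub : S ⊆ S ∪ S.image (· + e) := Finset.subset_union_left
    rcases eq_or_ne (S ∪ S.image (· + e)) S with h | h
    · have hne : S.Nonempty := Finset.card_pos.mp (by have := (Fact.out : p.Prime).pos; omega)
      obtain ⟨t, ht⟩ := hne
      have hall : ∀ i : ℕ, t + (i : ZMod p) * e ∈ S := by
        intro i
        induction i with
        | zero => simpa using ht
        | succ i hi =>
          rw [← h, Nat.cast_succ, add_mul, one_mul, ← add_assoc]
          exact Finset.mem_union_right _ (Finset.mem_image_of_mem (· + e) hi)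
      have hS : S = Finset.univ := Finset.eq_univ_iff_forall.mpr fun z => by
        haveI : NeZero p := ⟨(Fact.out : p.Prime).ne_zero⟩
        have := hall ((z - t) * e⁻¹).val
        have hinv : e⁻¹ * e = 1 := inv_mul_cancel₀ he
        rwa [ZMod.natCast_zmod_val, mul_assoc, hinv, mul_one, add_sub_cancel] at this
      rw [h, hS, Finset.card_univ, ZMod.card]
      exact min_le_left _ _
    · have := Finset.card_lt_card (lt_of_le_of_ne hsub (Ne.symm h))
      omega

/-- Iterated bracket with `A`. -/
def iterBr (A N : ZMod p → AddSubgroup L) : ℕ → ZMod p → AddSubgroup L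
  | 0 => N
  | m + 1 => br (iterBr A N m) A

omit [Fact p.Prime] in
theorem iterBr_add (A N : ZMod p → AddSubgroup L) (m : ℕ) :
    ∀ k, iterBr A N (m + k) = iterBr A (iterBr A N m) k
  | 0 => rfl
  | k + 1 => by
    show br (iterBr A N (m + k)) A = _
    rw [iterBr_add A N m k]
    rfl

omit [Fact p.Prime] in
theorem iterBr_mono (A : ZMod p → AddSubgroup L) {N₁ N₂ : ZMod p → AddSubgroup L} (h : N₁ ≤ N₂) :
    ∀ m, iterBr A N₁ m ≤ iterBr A N₂ m
  | 0 => h
  | m + 1 => br_mono (iterBr_mono A h m) le_rfl

theorem iterBr_le_word (hI0 : I 0 = ⊥) : ∀ m, ∀ d, iterBr I N m d ≤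
    AddSubgroup.closure {v | ∃ S : Finset (ZMod p), Word N I m S d v}
  | 0 => fun d v hv => AddSubgroup.subset_closure ⟨{d}, Word.base hv⟩
  | m + 1 => fun d => br_le (C := fun d => AddSubgroup.closure {v | ∃ S, Word N I (m + 1) S d v})
      (fun a b x hx y hy => by
        refine lie_mem_of_closure (iterBr_le_word hI0 m a hx) ?_
        rintro u ⟨S, hS⟩
        by_cases hb : b = 0
        · subst hb
          rw [hI0, AddSubgroup.mem_bot] at hy
          rw [hy, lie_zero]
          exact zero_mem _
        · exact AddSubgroup.subset_closure ⟨_, hS.step hb hy⟩) d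

/-- commuting operators of non-zero degree: `p - 1` of them kill everything -/
theorem iterBr_abelian (hM : IsGraded M) (hN : Inv N M) (hN' : Inv N' M) (hI : I ≤ M) (hN0 : N 0 = ⊥)
    (hcomm : ∀ d, br N (br I I) d ≤ N' d) : iterBr I N (p - 1) ≤ N' := by
  intro d
  refine (iterBr_le_word (le_bot_iff.mp ((hI 0).trans hM.zero.le)) (p - 1) d).trans ?_
  rw [AddSubgroup.closure_le]
  rintro v ⟨S, hS⟩
  refine Word.mem_of_zero hN hN' hI hcomm hN0 (p - 1) hS ?_
  have := hS.card_le
  have hp := (Fact.out : p.Prime).pos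
  rw [show p - 1 + 1 = p by omega, min_self] at this
  have huniv : S = Finset.univ := Finset.eq_univ_of_card S
    (le_antisymm (Finset.card_le_univ S) (by rwa [ZMod.card]))
  rw [huniv]
  exact Finset.mem_univ _

theorem inv_br (hN : Inv N M) (hI : Inv I M) : Inv (br N I) M := by
  intro a b x hx y hy
  refine lie_mem_of_closure hx ?_
  rintro _ ⟨c, e, u, hu, v, hv, hce, rfl⟩
  rw [lie_lie_eq]
  refine add_mem ?_ ?_
  · have h := lie_mem_br (A := N) (B := I) (hN c b u hu y hy) hv
    rwa [show c + b + e = a + b by rw [← hce]; abel] at h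
  · have h := lie_mem_br (A := N) (B := I) hu (hI e b v hv y hy)
    rwa [show c + (e + b) = a + b by rw [← hce]; abel] at h

/-- Higman: if `derived M j` maps `N` into `N'`, so do `(p - 1) ^ j` brackets with `M`. -/
theorem higman (hM : IsGraded M) : ∀ (j : ℕ) (N N' : ZMod p → AddSubgroup L), Inv N M → Inv N' M →
    N ≤ M → N' ≤ N → br N (derived M j) ≤ N' → iterBr M N ((p - 1) ^ j) ≤ N' := by
  intro j
  induction j with
  | zero => intro N N' _ _ _ _ h; rw [pow_zero]; exact h
  | succ j ih =>
    intro N N' hN hN' hNM hle h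
    set I := derived M j with hIdef
    have hIM : I ≤ M := derived_le hM j
    set Ni : ℕ → ZMod p → AddSubgroup L := fun i => iterBr I N i ⊔ N' with hNi
    have hinvit : ∀ i, Inv (iterBr I N i) M := by
      intro i
      induction i with
      | zero => exact hN
      | succ i ihi => exact inv_br ihi (lie_derived hM j)
    have hinv : ∀ i, Inv (Ni i) M := by
      intro i a b x hx y hy
      simp only [hNi, Pi.sup_apply] at hx ⊢
      obtain ⟨u, hu, v, hv, rfl⟩ := AddSubgroup.mem_sup.mp hx
      rw [add_lie]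
      exact add_mem (AddSubgroup.mem_sup_left (hinvit i a b u hu y hy))
        (AddSubgroup.mem_sup_right (hN' a b v hv y hy))
    have hle' : ∀ i, iterBr I N i ≤ N := by
      intro i
      induction i with
      | zero => exact le_rfl
      | succ i ihi => exact br_le fun a b x hx y hy => hN a b x (ihi a hx) y (hIM b hy)
    have hNle : ∀ i, Ni (i + 1) ≤ Ni i := by
      intro i
      refine sup_le_sup_right ?_ N'
      exact br_le fun a b x hx y hy => hinvit i a b x hx y (hIM b hy)
    have hstep : ∀ i, iterBr M (Ni i) ((p - 1) ^ j) ≤ Ni (i + 1) := by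
      intro i
      refine ih (Ni i) (Ni (i + 1)) (hinv i) (hinv (i + 1))
        (sup_le ((hle' i).trans hNM) (hle.trans hNM)) (hNle i) ?_
      refine br_le fun a b x hx y hy => ?_
      simp only [hNi, Pi.sup_apply] at hx ⊢
      obtain ⟨u, hu, v, hv, rfl⟩ := AddSubgroup.mem_sup.mp hx
      rw [add_lie]
      exact add_mem (AddSubgroup.mem_sup_left (lie_mem_br hu hy))
        (AddSubgroup.mem_sup_right (hN' a b v hv y (hIM b hy)))
    have hiter : ∀ i, iterBr M N (i * (p - 1) ^ j) ≤ Ni i := by
      intro i
      induction i with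
      | zero => rw [zero_mul]; exact le_sup_left
      | succ i ihi =>
        rw [add_mul, one_mul, iterBr_add]
        exact (iterBr_mono M ihi _).trans (hstep i)
    rw [pow_succ']
    refine (hiter (p - 1)).trans (sup_le ?_ le_rfl)
    exact iterBr_abelian hM hN hN' hIM (le_bot_iff.mp ((hNM 0).trans hM.zero.le)) fun d => h d

/-- The class of a graded family with trivial zero component. -/
theorem iterBr_eq_bot (hM : IsGraded M) :
    iterBr M M (Finset.sum (Finset.range (2 ^ (p - 1) - 1)) fun i => (p - 1) ^ i) = ⊥ := by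
  suffices h : ∀ n, iterBr M M (Finset.sum (Finset.range n) fun i => (p - 1) ^ i) ≤ derived M n by
    funext d
    exact le_bot_iff.mp ((h _ d).trans (derived_eq_bot hM d).le)
  intro n
  induction n with
  | zero => exact le_rfl
  | succ n ih =>
    rw [Finset.sum_range_succ, iterBr_add]
    refine (iterBr_mono M ih _).trans ?_
    refine higman hM n _ _ (lie_derived hM n) (lie_derived hM (n + 1)) (derived_le hM n) ?_ le_rfl
    exact br_le fun a b x hx y hy => lie_derived hM n a b x hx y (derived_le hM n b hy)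

/-- For `p = 3` two brackets vanish. -/
theorem iterBr_two_eq_bot {M : ZMod 3 → AddSubgroup L} (hM : IsGraded M) : iterBr M M 2 = ⊥ := by
  suffices h : iterBr M M 2 ≤ ⊥ from le_bot_iff.mp h
  refine br_le fun a c w hw z hz => ?_
  refine lie_mem_of_closure hw ?_
  rintro _ ⟨a', b', x, hx, y, hy, -, rfl⟩
  show ⁅⁅x, y⁆, z⁆ ∈ (⊥ : AddSubgroup L)
  rw [AddSubgroup.mem_bot]
  have hz0 : ∀ {i j : ZMod 3} {u v : L}, u ∈ M i → v ∈ M j → i + j = 0 → ⁅u, v⁆ = 0 := by
    intro i j u v hu hv hij
    have h := hM.lie i j u hu v hv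
    rwa [hij, hM.zero, AddSubgroup.mem_bot] at h
  have key : ∀ i j k : ZMod 3, i = 0 ∨ j = 0 ∨ k = 0 ∨ i + j = 0 ∨ i + j + k = 0 ∨ (i + k = 0 ∧ j + k = 0) := by
    decide
  replace hx : x ∈ M a' := hx
  replace hy : y ∈ M b' := hy
  replace hz : z ∈ M c := hz
  rcases key a' b' c with h | h | h | h | h | ⟨h, h'⟩
  · rw [h, hM.zero, AddSubgroup.mem_bot] at hx; simp [hx]
  · rw [h, hM.zero, AddSubgroup.mem_bot] at hy; simp [hy]
  · rw [h, hM.zero, AddSubgroup.mem_bot] at hz; simp [hz]
  · rw [hz0 hx hy h, zero_lie]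
  · exact hz0 (hM.lie _ _ _ hx _ hy) hz h
  · rw [lie_lie_eq, hz0 hx hz h, hz0 hy hz h', zero_lie, lie_zero, add_zero]

end Higman

/-- Iterated brackets of a set spanning the same as the family. -/
theorem iterate_le {q : ℕ} {M : ZMod q → AddSubgroup L} (hsup : (⊤ : AddSubgroup L) ≤ ⨆ d, M d) (m : ℕ)
    (hbot : iterBr M M m = ⊥) (S : ℕ → Set L)
    (hS : ∀ i, ∀ z ∈ S (i + 1), ∃ x ∈ S i, ∃ y, ⁅x, y⁆ = z) : ∀ z ∈ S m, z = 0 := by
  have h : ∀ i, ∀ z ∈ S i, z ∈ ⨆ d, iterBr M M i d := by
    intro i
    induction i with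
    | zero => exact fun z _ => hsup (AddSubgroup.mem_top z)
    | succ i ih =>
      intro z hz
      obtain ⟨x, hx, y, rfl⟩ := hS i z hz
      have hy : y ∈ AddSubgroup.closure (⋃ d, (M d : Set L)) :=
        AddSubgroup.iSup_eq_closure M ▸ hsup (AddSubgroup.mem_top y)
      have hx' : x ∈ AddSubgroup.closure (⋃ d, (iterBr M M i d : Set L)) :=
        AddSubgroup.iSup_eq_closure (iterBr M M i) ▸ ih x hx
      refine lie_mem_of_closure hx' fun u hu => lie_mem_of_closure_right hy fun v hv => ?_
      obtain ⟨a, ha⟩ := Set.mem_iUnion.mp hu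
      obtain ⟨b, hb⟩ := Set.mem_iUnion.mp hv
      exact AddSubgroup.mem_iSup_of_mem (a + b) (lie_mem_br (A := iterBr M M i) (B := M) ha hb)
  intro z hz
  have := h m z hz
  rwa [hbot, show (⨆ d, (⊥ : ZMod q → AddSubgroup L) d) = ⊥ by simp, AddSubgroup.mem_bot] at this

end CfsgLib.FpfClass
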