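import Mathlib.Algebra.Lie.BaseChange
import Mathlib.RingTheory.AdjoinRoot
import Mathlib.RingTheory.Polynomial.Cyclotomic.Basic
import Cfsg.Agent.FpfClass.GradedLie
import Cfsg.Agent.FpfClass.AssociatedLie
import Cfsg.Agent.ThompsonFpf.Nilpotency

/-!
# The class of a finite group with a fixed-point-free automorphism of prime order

The Lie ring of the lower central series, with scalars extended by a primitive `p`-th root of unity,
is graded by the eigenvalues of the automorphism with trivial zero component.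
-/

set_option autoImplicit false

open scoped TensorProduct commutatorElement
open Polynomial

namespace CfsgLib.FpfClass

/-- `ℤ[ω]`. -/
abbrev CycRing (p : ℕ) : Type := AdjoinRoot (Polynomial.cyclotomic p ℤ)

theorem sum_root_pow (p : ℕ) [Fact p.Prime] :
    ∑ i ∈ Finset.range p, (AdjoinRoot.root (Polynomial.cyclotomic p ℤ) : CycRing p) ^ i = 0 := by
  have h : AdjoinRoot.mk (Polynomial.cyclotomic p ℤ) (Polynomial.cyclotomic p ℤ) = 0 := AdjoinRoot.mk_self
  conv_lhs at h => arg 2; rw [Polynomial.cyclotomic_prime]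
  simpa using h

theorem root_pow (p : ℕ) [Fact p.Prime] :
    (AdjoinRoot.root (Polynomial.cyclotomic p ℤ) : CycRing p) ^ p = 1 := by
  have h := geom_sum_mul (AdjoinRoot.root (Polynomial.cyclotomic p ℤ) : CycRing p) p
  rw [sum_root_pow, zero_mul] at h
  exact sub_eq_zero.mp h.symm

/-- `ω ^ d`. -/
noncomputable def rootPow (p : ℕ) (d : ZMod p) : CycRing p :=
  AdjoinRoot.root (Polynomial.cyclotomic p ℤ) ^ d.val

theorem rootPow_add (p : ℕ) [Fact p.Prime] (a b : ZMod p) :
    rootPow p (a + b) = rootPow p a * rootPow p b := by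
  haveI : NeZero p := ⟨(Fact.out : p.Prime).ne_zero⟩
  rw [rootPow, rootPow, rootPow, ← pow_add, ZMod.val_add]
  exact (pow_mod_orderOf _ _).symm.trans (by
    rw [Nat.mod_mod_of_dvd _ (orderOf_dvd_of_pow_eq_one (root_pow p)), pow_mod_orderOf])

theorem rootPow_zero (p : ℕ) [Fact p.Prime] : rootPow p 0 = 1 := by
  rw [rootPow, ZMod.val_zero, pow_zero]

theorem sum_rootPow (p : ℕ) [Fact p.Prime] [NeZero p] : ∑ d : ZMod p, rootPow p d = 0 := by
  rw [← sum_root_pow p]
  refine Finset.sum_bij (fun d _ => d.val) (fun d _ => Finset.mem_range.mpr (ZMod.val_lt d))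
    (fun a _ b _ h => ZMod.val_injective p h)
    (fun i hi => ⟨(i : ZMod p), Finset.mem_univ _, ?_⟩) (fun d _ => rfl)
  exact ZMod.val_natCast_of_lt (Finset.mem_range.mp hi)

theorem sum_rootPow_mul (p : ℕ) [Fact p.Prime] [NeZero p] (k : ZMod p) :
    ∑ d : ZMod p, rootPow p (-(d * k)) = if k = 0 then (p : CycRing p) else 0 := by
  split_ifs with hk
  · subst hk
    simp [rootPow_zero, ZMod.card]
  · conv_rhs => rw [← sum_rootPow p]
    refine Fintype.sum_bijective (fun d : ZMod p => -(d * k)) ?_ _ _ (fun d => rfl)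
    refine (Finite.injective_iff_bijective).mp fun a b h => ?_
    exact mul_right_cancel₀ hk (neg_injective h)

variable {G : Type*} [Group G] {p : ℕ}

/-- The Lie ring with the scalars extended. -/
abbrev ExtGr (p : ℕ) (G : Type*) [Group G] := CycRing p ⊗[ℤ] Gr G

/-- The extended automorphism. -/
noncomputable def extMap (p : ℕ) (α : MulAut G) : ExtGr p G →ₗ[CycRing p] ExtGr p G :=
  LinearMap.baseChange (CycRing p) (grMap α).toIntLinearMap

theorem extMap_tmul (α : MulAut G) (r : CycRing p) (a : Gr G) :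
    extMap p α (r ⊗ₜ[ℤ] a) = r ⊗ₜ[ℤ] grMap α a := rfl

theorem ext_lie_zero (x : ExtGr p G) : ⁅x, (0 : ExtGr p G)⁆ = 0 := lie_zero x

theorem ext_zero_lie (x : ExtGr p G) : ⁅(0 : ExtGr p G), x⁆ = 0 := zero_lie x

theorem ext_lie_add (x y z : ExtGr p G) : ⁅x, y + z⁆ = ⁅x, y⁆ + ⁅x, z⁆ := lie_add x y z

theorem ext_add_lie (x y z : ExtGr p G) : ⁅x + y, z⁆ = ⁅x, z⁆ + ⁅y, z⁆ := add_lie x y z

theorem ext_smul_lie (r s : CycRing p) (x y : ExtGr p G) : ⁅r • x, s • y⁆ = (r * s) • ⁅x, y⁆ :=
  ((smul_lie r x (s • y)).trans (congrArg (r • ·) (lie_smul s x y))).trans (smul_smul r s _)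

theorem extMap_lie (α : MulAut G) (x y : ExtGr p G) :
    extMap p α ⁅x, y⁆ = ⁅extMap p α x, extMap p α y⁆ := by
  induction x using TensorProduct.induction_on with
  | zero => rw [ext_zero_lie, map_zero, ext_zero_lie]
  | tmul r a =>
    induction y using TensorProduct.induction_on with
    | zero => rw [ext_lie_zero, map_zero, ext_lie_zero]
    | tmul s b =>
      rw [LieAlgebra.ExtendScalars.bracket_tmul, extMap_tmul, extMap_tmul, extMap_tmul,
        LieAlgebra.ExtendScalars.bracket_tmul, grMap_lie]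
    | add u w hu hw => rw [ext_lie_add, map_add, map_add, hu, hw, ext_lie_add]
  | add u w hu hw => rw [ext_add_lie, map_add, map_add, hu, hw, ext_add_lie]

theorem grMap_mul (α β : MulAut G) (a : Gr G) : grMap (α * β) a = grMap α (grMap β a) := by
  induction a using gr_induction with
  | h0 => simp
  | hcl i g hg => rw [grMap_cl β i hg, grMap_cl α i (map_mem_gam β hg), grMap_cl _ i hg, MulAut.mul_apply]
  | hadd u w hu hw => simp only [map_add, hu, hw]

theorem grMap_one (a : Gr G) : grMap (1 : MulAut G) a = a := by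
  induction a using gr_induction with
  | h0 => simp
  | hcl i g hg => rw [grMap_cl _ i hg, MulAut.one_apply]
  | hadd u w hu hw => simp only [map_add, hu, hw]

theorem card_nsmul_gr [Finite G] (a : Gr G) : Nat.card G • a = 0 := by
  induction a using gr_induction with
  | h0 => simp
  | hcl i g hg => rw [← cl_pow i hg, pow_card_eq_one', cl_one]
  | hadd u w hu hw => rw [smul_add, hu, hw, add_zero]

/-- The sum over the powers of a fixed-point-free automorphism vanishes on the Lie ring. -/
theorem sum_grMap_eq_zero [Finite G] [NeZero p] (α : MulAut G) (hα : α ^ p = 1)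
    (hfpf : ∀ g : G, α g = g → g = 1) (a : Gr G) : ∑ k : ZMod p, grMap (α ^ k.val) a = 0 := by
  induction a using gr_induction with
  | h0 => simp
  | hcl i g hg =>
    have hinj : Function.Injective (fun h : ↥(gam G i) =>
        (⟨(h : G)⁻¹ * α h, (gam G i).mul_mem ((gam G i).inv_mem h.2) (map_mem_gam α h.2)⟩ : ↥(gam G i))) := by
      intro x y h
      have h2 : (x : G)⁻¹ * α x = (y : G)⁻¹ * α y := congrArg Subtype.val h
      have h3 : α ((y : G) * (x : G)⁻¹) = (y : G) * (x : G)⁻¹ := by
        calc α ((y : G) * (x : G)⁻¹) = ((y : G) * ((y : G)⁻¹ * α y)) * (α x)⁻¹ := by rw [map_mul, map_inv]; group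
          _ = ((y : G) * ((x : G)⁻¹ * α x)) * (α x)⁻¹ := by rw [h2]
          _ = (y : G) * (x : G)⁻¹ := by group
      exact Subtype.ext (mul_inv_eq_one.mp (hfpf _ h3)).symm
    obtain ⟨h, hh⟩ := Finite.injective_iff_surjective.mp hinj ⟨g, hg⟩
    have hh' : g = (h : G)⁻¹ * α h := (congrArg Subtype.val hh).symm
    have hval : ∀ k : ZMod p, grMap (α ^ k.val) (cl i g) =
        cl i ((α ^ (k + 1).val) (h : G)) - cl i ((α ^ k.val) (h : G)) := by
      intro k
      rw [grMap_cl _ i hg, hh', map_mul, map_inv,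
        cl_mul i ((gam G i).inv_mem (map_mem_gam _ h.2)) (map_mem_gam _ (map_mem_gam α h.2)),
        cl_inv i (map_mem_gam _ h.2), sub_eq_add_neg, add_comm]
      congr 2
      rw [← MulAut.mul_apply, ← pow_succ, ← pow_mod_orderOf α (k.val + 1), ← pow_mod_orderOf α (k + 1).val,
        ZMod.val_add, ZMod.val_one_eq_one_mod, Nat.add_mod_mod,
        Nat.mod_mod_of_dvd _ (orderOf_dvd_of_pow_eq_one hα)]
    rw [Finset.sum_congr rfl fun k _ => hval k, Finset.sum_sub_distrib, sub_eq_zero]
    exact Equiv.sum_comp (Equiv.addRight (1 : ZMod p)) fun k : ZMod p => cl i ((α ^ k.val) (h : G))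
  | hadd u w hu hw => simp only [map_add, Finset.sum_add_distrib, hu, hw, add_zero]

/-- The eigenspaces. -/
noncomputable def eig (p : ℕ) (α : MulAut G) (d : ZMod p) : AddSubgroup (ExtGr p G) where
  carrier := {x | extMap p α x = rootPow p d • x}
  zero_mem' := by show extMap p α 0 = _; rw [map_zero, smul_zero]
  add_mem' := fun {x y} hx hy => by
    show extMap p α (x + y) = _
    rw [map_add, show extMap p α x = _ from hx, show extMap p α y = _ from hy, smul_add]
  neg_mem' := fun {x} hx => by
    show extMap p α (-x) = _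
    rw [map_neg, show extMap p α x = _ from hx, smul_neg]

/-- `(∑ k, ω^(-dk) α^k)`. -/
noncomputable def proj (p : ℕ) [NeZero p] (α : MulAut G) (d : ZMod p) (x : ExtGr p G) : ExtGr p G :=
  ∑ k : ZMod p, rootPow p (-(d * k)) • extMap p (α ^ k.val) x

theorem extMap_extMap (α β : MulAut G) (x : ExtGr p G) :
    extMap p α (extMap p β x) = extMap p (α * β) x := by
  induction x using TensorProduct.induction_on with
  | zero => simp
  | tmul r a => rw [extMap_tmul, extMap_tmul, extMap_tmul, grMap_mul]
  | add u w hu hw => simp only [map_add, hu, hw]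

theorem extMap_one (x : ExtGr p G) : extMap p (1 : MulAut G) x = x := by
  induction x using TensorProduct.induction_on with
  | zero => simp
  | tmul r a => rw [extMap_tmul, grMap_one]
  | add u w hu hw => simp only [map_add, hu, hw]

theorem proj_mem [Fact p.Prime] [NeZero p] (α : MulAut G) (hα : α ^ p = 1) (d : ZMod p) (x : ExtGr p G) :
    proj p α d x ∈ eig p α d := by
  show extMap p α (proj p α d x) = rootPow p d • proj p α d x
  simp only [proj, map_sum, map_smul, Finset.smul_sum, smul_smul, extMap_extMap]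
  rw [← Equiv.sum_comp (Equiv.addRight (1 : ZMod p)) fun k : ZMod p => (rootPow p d * rootPow p (-(d * k))) • extMap p (α ^ k.val) x]
  refine Finset.sum_congr rfl fun k _ => ?_
  rw [Equiv.coe_addRight, ← rootPow_add, show d + -(d * (k + 1)) = -(d * k) by ring, ← pow_succ',
    ← pow_mod_orderOf α (k.val + 1), ← pow_mod_orderOf α (k + 1).val,
    ZMod.val_add, ZMod.val_one_eq_one_mod, Nat.add_mod_mod,
    Nat.mod_mod_of_dvd _ (orderOf_dvd_of_pow_eq_one hα)]

variable [Finite G] [Fact p.Prime]

theorem not_dvd_card (α : MulAut G) (hα : α ^ p = 1) (hfpf : ∀ g : G, α g = g → g = 1) :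
    ¬ p ∣ Nat.card G := by
  intro hd
  have hP : IsPGroup p (Subgroup.zpowers α) := by
    obtain ⟨k, -, hk⟩ := (Nat.dvd_prime_pow (Fact.out : p.Prime)).mp
      ((orderOf_dvd_of_pow_eq_one hα).trans (dvd_of_eq (pow_one p).symm))
    exact IsPGroup.of_card (n := k) (by rw [Nat.card_zpowers, hk])
  obtain ⟨g, hg, hg1⟩ := hP.exists_fixed_point_of_prime_dvd_card_of_fixed_point (α := G) hd
    (a := 1) (fun β => map_one (β : MulAut G))
  exact hg1 (hfpf g (hg ⟨α, Subgroup.mem_zpowers α⟩)).symm

theorem inverse_nsmul (α : MulAut G) (hα : α ^ p = 1) (hfpf : ∀ g : G, α g = g → g = 1) :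
    ∃ c : ℕ, ∀ x : ExtGr p G, c • p • x = x := by
  have hcop : p.Coprime (Nat.card G) :=
    (Fact.out : p.Prime).coprime_iff_not_dvd.mpr (not_dvd_card α hα hfpf)
  obtain ⟨c, hc⟩ : ∃ c : ℕ, p * c ≡ 1 [MOD Nat.card G] := by
    rcases (show 1 ≤ Nat.card G from Nat.card_pos).eq_or_lt with h1 | h1
    · exact ⟨0, by rw [← h1]; exact Nat.modEq_one⟩
    · obtain ⟨c, -, hc⟩ := Nat.exists_mul_mod_eq_one_of_coprime hcop h1
      exact ⟨c, by rw [Nat.ModEq, hc, Nat.mod_eq_of_lt h1]⟩
  refine ⟨c, fun x => ?_⟩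
  induction x using TensorProduct.induction_on with
  | zero => simp
  | tmul r a =>
    rw [← TensorProduct.tmul_smul, ← TensorProduct.tmul_smul, smul_smul, mul_comm]
    congr 1
    conv_rhs => rw [← one_smul ℕ a]
    rw [← Nat.mod_add_div (p * c) (Nat.card G), ← Nat.mod_add_div 1 (Nat.card G), add_smul, add_smul,
      mul_comm (Nat.card G), mul_comm (Nat.card G), mul_smul, mul_smul, card_nsmul_gr, smul_zero, smul_zero,
      show p * c % Nat.card G = 1 % Nat.card G from hc]
  | add u w hu hw => rw [smul_add, smul_add, hu, hw]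

theorem isGraded_eig (α : MulAut G) (hα : α ^ p = 1) (hfpf : ∀ g : G, α g = g → g = 1) :
    IsGraded (eig p α) := by
  haveI : NeZero p := ⟨(Fact.out : p.Prime).ne_zero⟩
  constructor
  · rw [eq_bot_iff]
    intro x hx
    have hx' : extMap p α x = x := by
      have h : extMap p α x = rootPow p 0 • x := hx
      rwa [rootPow_zero, one_smul] at h
    have hpow : ∀ k : ℕ, extMap p (α ^ k) x = x := by
      intro k
      induction k with
      | zero => rw [pow_zero, extMap_one]
      | succ k ih => rw [pow_succ, ← extMap_extMap, hx', ih]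
    have hzero : ∀ y : ExtGr p G, ∑ k : ZMod p, extMap p (α ^ k.val) y = 0 := by
      intro y
      induction y using TensorProduct.induction_on with
      | zero => simp
      | tmul r a =>
        simp only [extMap_tmul, ← TensorProduct.tmul_sum, sum_grMap_eq_zero α hα hfpf a, TensorProduct.tmul_zero]
      | add u w hu hw => simp only [map_add, Finset.sum_add_distrib, hu, hw, add_zero]
    have hpx : p • x = 0 := by
      have := hzero x
      simpa [hpow, Finset.sum_const, ZMod.card] using this
    obtain ⟨c, hc⟩ := inverse_nsmul (p := p) α hα hfpf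
    rw [AddSubgroup.mem_bot, ← hc x, hpx, smul_zero]
  · intro a b x hx y hy
    show extMap p α ⁅x, y⁆ = rootPow p (a + b) • ⁅x, y⁆
    rw [extMap_lie, show extMap p α x = _ from hx, show extMap p α y = _ from hy, ext_smul_lie, rootPow_add]

theorem top_le_iSup_eig (α : MulAut G) (hα : α ^ p = 1) (hfpf : ∀ g : G, α g = g → g = 1) :
    (⊤ : AddSubgroup (ExtGr p G)) ≤ ⨆ d, eig p α d := by
  haveI : NeZero p := ⟨(Fact.out : p.Prime).ne_zero⟩
  intro x _
  obtain ⟨c, hc⟩ := inverse_nsmul (p := p) α hα hfpf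
  rw [← hc x]
  refine nsmul_mem ?_ c
  have h : ∑ d : ZMod p, proj p α d x = (p : CycRing p) • x := by
    simp only [proj]
    rw [Finset.sum_comm]
    simp only [← Finset.sum_smul, sum_rootPow_mul, ite_smul, zero_smul, Finset.sum_ite_eq',
      Finset.mem_univ, if_true]
    rw [ZMod.val_zero, pow_zero, extMap_one]
  rw [← Nat.cast_smul_eq_nsmul (CycRing p) p x, ← h]
  exact AddSubgroup.sum_mem _ fun d _ => AddSubgroup.mem_iSup_of_mem d (proj_mem α hα d x)

/-- If `m` brackets of the eigenspaces vanish then `G` has class at most `m`. -/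
theorem lowerCentralSeries_eq_bot (hG : Group.IsNilpotent G) (α : MulAut G) (hα : α ^ p = 1)
    (hfpf : ∀ g : G, α g = g → g = 1) (m : ℕ) (hm : iterBr (eig p α) (eig p α) m = ⊥) :
    (⊤ : Subgroup G).lowerCentralSeries m = ⊥ := by
  let S : ℕ → Set (ExtGr p G) := fun i => Nat.rec Set.univ (fun _ T => {z | ∃ x ∈ T, ∃ y, ⁅x, y⁆ = z}) i
  have hS : ∀ z ∈ S m, z = 0 :=
    iterate_le (top_le_iSup_eig α hα hfpf) m hm S fun i z hz => hz
  have hmem : ∀ i, ∀ g ∈ gam G i, (1 : CycRing p) ⊗ₜ[ℤ] cl i g ∈ AddSubgroup.closure (S i) := by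
    intro i
    induction i with
    | zero => exact fun g _ => AddSubgroup.subset_closure (Set.mem_univ _)
    | succ i ih =>
      intro g hg
      have hg' : g ∈ ⁅gam G i, (⊤ : Subgroup G)⁆ := hg
      rw [Subgroup.commutator_def] at hg'
      induction hg' using Subgroup.closure_induction with
      | one => rw [cl_one, TensorProduct.tmul_zero]; exact zero_mem _
      | mul a b ha hb iha ihb =>
        rw [cl_mul _ (by exact ha) (by exact hb), TensorProduct.tmul_add]
        exact add_mem (iha (by exact ha)) (ihb (by exact hb))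
      | inv a ha iha =>
        rw [cl_inv _ (by exact ha), TensorProduct.tmul_neg]
        exact neg_mem (iha (by exact ha))
      | mem g hg' =>
        obtain ⟨x, hx, y, -, rfl⟩ := hg'
        have h := lie_mem_of_closure (T := AddSubgroup.closure (S (i + 1)))
          (y := (1 : CycRing p) ⊗ₜ[ℤ] cl 0 y) (ih x hx)
          (fun u hu => AddSubgroup.subset_closure ⟨u, hu, _, rfl⟩)
        rwa [LieAlgebra.ExtendScalars.bracket_tmul, one_mul, lie_cl hx (Subgroup.mem_top y)] at h
  have hstab : gam G m ≤ gam G (m + 1) := by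
    intro g hg
    rw [← cl_eq_zero_iff m hg]
    have h0 : (1 : CycRing p) ⊗ₜ[ℤ] cl m g = 0 := by
      have h : AddSubgroup.closure (S m) ≤ ⊥ := (AddSubgroup.closure_le _).mpr fun z hz => by
        rw [hS z hz]; exact zero_mem _
      exact AddSubgroup.mem_bot.mp (h (hmem m g hg))
    have hmon : (Polynomial.cyclotomic p ℤ).Monic := Polynomial.cyclotomic.monic p ℤ
    let φ : CycRing p →ₗ[ℤ] ℤ := (Polynomial.lcoeff ℤ 0).comp (AdjoinRoot.modByMonicHom hmon)
    have hφ : φ 1 = 1 := by
      show (AdjoinRoot.modByMonicHom hmon 1).coeff 0 = 1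
      rw [show (1 : CycRing p) = AdjoinRoot.mk (Polynomial.cyclotomic p ℤ) 1 from (map_one _).symm,
        AdjoinRoot.modByMonicHom_mk,
        (Polynomial.modByMonic_eq_self_iff hmon).mpr (by
          rw [Polynomial.degree_one, Polynomial.degree_cyclotomic]
          exact_mod_cast Nat.totient_pos.mpr (Fact.out : p.Prime).pos), Polynomial.coeff_one_zero]
    have h1 := congrArg ((TensorProduct.lid ℤ (Gr G)).toLinearMap ∘ₗ φ.rTensor (Gr G)) h0
    simpa [hφ] using h1
  obtain ⟨c, hc⟩ := Subgroup.nilpotent_iff_lowerCentralSeries.mp hG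
  have hall : ∀ j, gam G m ≤ gam G (m + j) := by
    intro j
    induction j with
    | zero => exact le_rfl
    | succ j ih =>
      calc gam G m ≤ gam G (m + 1) := hstab
        _ = ⁅gam G m, (⊤ : Subgroup G)⁆ := rfl
        _ ≤ ⁅gam G (m + j), (⊤ : Subgroup G)⁆ := Subgroup.commutator_mono ih le_rfl
        _ = gam G (m + (j + 1)) := rfl
  exact le_bot_iff.mp (((hall c).trans (gam_anti (Nat.le_add_left c m))).trans hc.le)

end CfsgLib.FpfClass
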